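import Groth.Agent.Desc.K390.PnSec
import Groth.Agent.Constr.K591.VerStruct
import Groth.Agent.Lefpen.H872.RelBase

/-!
# Morphisms between projective spaces given by forms spanning the forms of degree `d`

* `givenBy_of_ratio`: local criterion for a morphism to `P^n` to be given by sections of an invertible module.
* `V hd F hF hspan : P^m_A ⟶ P^n_A`: the morphism given by forms `F_0, …, F_n` of degree `d ≥ 1` spanning all the
  forms of degree `d`; it is a closed immersion over `A`, given by the sections `F_j` of `O(d)`.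
-/

set_option autoImplicit false
universe u
open CategoryTheory CategoryTheory.Limits AlgebraicGeometry TopologicalSpace Opposite

namespace K387.FormProj

open Groth.Agent.Fdesc.LocGen Groth.Agent.Dix.ProjProper
open Groth.Agent.VarietyB Groth.Agent.VarietyB.ProjGlue
open Groth.Agent.Ega2.H295.PnUniq Groth.Agent.Ega2.H295.PnCoord
open K390.PnSec

attribute [local instance] MvPolynomial.gradedAlgebra

section ratio

variable {X : Scheme.{u}} {n : ℕ} {R : Type u} [CommRing R]

/-- A morphism to `P^n` is given by the sections `s` of `M` if `s_i` generates `M` over the inverse image of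
`D_+(X_i)` and `s_j = (X_j/X_i) s_i` there. -/
theorem givenBy_of_ratio (r : X ⟶ CohB1.ProjSpace n R) (M : X.Modules) (s : Fin (n + 1) → Γ(M, ⊤))
    (hgen : ∀ i, IsGen (res M (le_top : r ⁻¹ᵁ Dp (Fin (n + 1)) R i ≤ ⊤) (s i)))
    (hs : ∀ i j, res M (le_top : r ⁻¹ᵁ Dp (Fin (n + 1)) R i ≤ ⊤) (s j) =
      (r.appLE (Dp (Fin (n + 1)) R i) (r ⁻¹ᵁ Dp (Fin (n + 1)) R i) le_rfl
        (ProjStd.ratio (Fin (n + 1)) R i j)) •
        res M (le_top : r ⁻¹ᵁ Dp (Fin (n + 1)) R i ≤ ⊤) (s i)) :
    GivenBy r M s := by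
  have hcov : ⨆ i, CohB1.genLocus M (homOf (s i)) = ⊤ := by
    rw [eq_top_iff, ← iSup_preimage r]
    refine iSup_mono fun i => ?_
    rw [le_genLocus_iff, sec_homOf]
    exact hgen i
  obtain ⟨r', hr', h'⟩ := exists_givenBy (r ≫ CohB1.ProjSpace.toSpec n R) s hcov
  obtain ⟨τ, hτ⟩ := id h'
  suffices h : r = r' by rw [h]; exact h'
  refine hom_ext_opens (fun i => r ⁻¹ᵁ Dp (Fin (n + 1)) R i) (iSup_preimage r) r r' fun i => ?_
  have key : ∀ k, res _ (le_top : r ⁻¹ᵁ Dp (Fin (n + 1)) R i ≤ ⊤) (tsec r' k) =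
      (r.appLE (Dp (Fin (n + 1)) R i) _ le_rfl (ProjStd.ratio (Fin (n + 1)) R i k)) •
        res _ (le_top) (tsec r' i) := by
    intro k
    have h1 : ∀ k, τ.inv.app ⊤ (s k) = tsec r' k := by
      intro k
      rw [← hτ k]
      exact congr(($(τ.hom_inv_id).app ⊤) (tsec r' k))
    have h3 := congrArg (τ.inv.app _) (hs i k)
    rw [Scheme.Modules.Hom.app_smul, app_res, app_res, h1, h1] at h3
    exact h3
  obtain ⟨e, he⟩ := ratio_of_rel r' i _ key
  exact ι_comp_eq_of_ratio r r' hr'.symm i le_rfl e (fun k => (he k).symm)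

end ratio

section alg

variable {A : Type u} [CommRing A] {m n d : ℕ}

theorem map_aeval_eq (F : Fin (n + 1) → MvPolynomial (Fin (m + 1)) A)
    (hF : ∀ j, F j ∈ CohB1.polyGrading m A d)
    (hspan : CohB1.polyGrading m A d ≤ Submodule.span A (Set.range F)) (k : ℕ) :
    Submodule.map (MvPolynomial.aeval (R := A) F).toLinearMap (CohB1.polyGrading n A k) =
      CohB1.polyGrading m A (k * d) := by
  have h1 : Submodule.map (MvPolynomial.aeval (R := A) F).toLinearMap (CohB1.polyGrading n A 1) =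
      CohB1.polyGrading m A d := by
    refine le_antisymm ?_ ?_
    · change Submodule.map _ (MvPolynomial.homogeneousSubmodule (Fin (n + 1)) A 1) ≤ _
      rw [MvPolynomial.homogeneousSubmodule_one_eq_span_X, Submodule.map_span, Submodule.span_le]
      rintro _ ⟨_, ⟨j, rfl⟩, rfl⟩
      change MvPolynomial.aeval F (MvPolynomial.X j) ∈ _
      rw [MvPolynomial.aeval_X]
      exact hF j
    · refine hspan.trans ?_
      rw [Submodule.span_le]
      rintro _ ⟨j, rfl⟩
      exact ⟨MvPolynomial.X j, MvPolynomial.isHomogeneous_X A j, MvPolynomial.aeval_X _ _⟩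
  have h2 : CohB1.polyGrading n A k = (CohB1.polyGrading n A 1) ^ k :=
    (MvPolynomial.homogeneousSubmodule_one_pow A k).symm
  have h3 : CohB1.polyGrading m A (k * d) = (CohB1.polyGrading m A d) ^ k := by
    change MvPolynomial.homogeneousSubmodule _ _ _ = (MvPolynomial.homogeneousSubmodule _ _ _) ^ k
    rw [← MvPolynomial.homogeneousSubmodule_one_pow A (k * d),
      ← MvPolynomial.homogeneousSubmodule_one_pow A d, ← pow_mul, mul_comm]
  rw [h2, Submodule.map_pow, h1, h3]

end alg

section V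

open Groth.Agent.Ega2.H288 VeroneseAlg VeroneseProj HomogeneousLocalization

variable {A : Type u} [CommRing A] {m n d : ℕ} (hd : 0 < d) (F : Fin (n + 1) → MvPolynomial (Fin (m + 1)) A)
  (hF : ∀ j, F j ∈ CohB1.polyGrading m A d)
  (hspan : CohB1.polyGrading m A d ≤ Submodule.span A (Set.range F))

/-- The morphism `P^m → P^n` given by the forms `F`. -/
noncomputable def V : CohB1.ProjSpace m A ⟶ CohB1.ProjSpace n A :=
  fwd (CohB1.polyGrading m A) (CohB1.polyGrading n A) hd (MvPolynomial.aeval (R := A) F)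
    (map_aeval_eq F hF hspan)

theorem V_preimage (j : Fin (n + 1)) : V hd F hF hspan ⁻¹ᵁ Dp (Fin (n + 1)) A j =
    Proj.basicOpen (CohB1.polyGrading m A) (F j) := by
  have h := fwd_preimage_basicOpen (CohB1.polyGrading m A) (CohB1.polyGrading n A) hd
    (MvPolynomial.aeval (R := A) F) (map_aeval_eq F hF hspan) one_pos (MvPolynomial.X j)
    (MvPolynomial.isHomogeneous_X A j)
  rw [MvPolynomial.aeval_X] at h
  exact h

theorem awayι_toSpec {N l : ℕ} (hl : 0 < l) (s : MvPolynomial (Fin (N + 1)) A)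
    (hs : s ∈ CohB1.polyGrading N A l) :
    Proj.awayι (CohB1.polyGrading N A) s hs hl ≫ CohB1.ProjSpace.toSpec N A =
      Spec.map (CommRingCat.ofHom (Groth.Agent.CohqB.ProjBC.awayAlg N s)) := by
  have h := Proj.awayι_toSpecZero (CohB1.polyGrading N A) s hs hl
  refine (Category.assoc _ _ _).symm.trans ((congrArg (fun q => q ≫ Spec.map (CommRingCat.ofHom
    (algebraMap A (CohB1.polyGrading N A 0)))) h).trans ?_)
  rw [← Spec.map_comp, ← CommRingCat.ofHom_comp]
  rfl

theorem V_toSpec : V hd F hF hspan ≫ CohB1.ProjSpace.toSpec n A = CohB1.ProjSpace.toSpec m A := by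
  refine (cover (CohB1.polyGrading m A) (CohB1.polyGrading n A) hd (MvPolynomial.aeval (R := A) F)
    (map_aeval_eq F hF hspan)).openCover.hom_ext _ _ fun g => ?_
  change chart (CohB1.polyGrading m A) (CohB1.polyGrading n A) hd (MvPolynomial.aeval (R := A) F)
    (map_aeval_eq F hF hspan) g ≫ (fwd _ _ _ _ _ ≫ CohB1.ProjSpace.toSpec n A) =
    chart (CohB1.polyGrading m A) (CohB1.polyGrading n A) hd (MvPolynomial.aeval (R := A) F)
    (map_aeval_eq F hF hspan) g ≫ CohB1.ProjSpace.toSpec m A
  refine (Category.assoc _ _ _).symm.trans ?_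
  refine (congrArg (fun q => q ≫ CohB1.ProjSpace.toSpec n A) (chart_fwd _ _ hd _ (map_aeval_eq F hF hspan) g)).trans ?_
  refine (Category.assoc _ _ _).trans ?_
  refine (congrArg (fun q => specTheta _ _ _ _ _ ≫ q) (awayι_toSpec _ _ _)).trans ?_
  refine Eq.trans ?_ (awayι_toSpec _ _ _).symm
  rw [specTheta, ← Spec.map_comp, ← CommRingCat.ofHom_comp]
  congr 2
  refine RingHom.ext fun a => ?_
  apply HomogeneousLocalization.val_injective
  rw [RingHom.comp_apply, val_theta, Groth.Agent.CohqB.ProjBC.val_awayAlg,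
    Groth.Agent.CohqB.ProjBC.val_awayAlg, Localization.awayMap, IsLocalization.Away.map,
    IsLocalization.map_eq]
  congr 1
  exact MvPolynomial.aeval_C _ _

/-- The value of `V` on fractions. -/
theorem V_appLE (j : Fin (n + 1))
    (hle : Proj.basicOpen (CohB1.polyGrading m A) (F j) ≤ V hd F hF hspan ⁻¹ᵁ Dp (Fin (n + 1)) A j)
    {l : ℕ} (P : MvPolynomial (Fin (n + 1)) A) (hP : P ∈ CohB1.polyGrading n A (l • 1))
    (hP' : MvPolynomial.aeval (R := A) F P ∈ CohB1.polyGrading m A (l • d)) :
    (V hd F hF hspan).appLE (Dp (Fin (n + 1)) A j) (Proj.basicOpen (CohB1.polyGrading m A) (F j)) hle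
      (Proj.awayToSection (CohB1.polyGrading n A) (MvPolynomial.X j)
        (Away.mk (CohB1.polyGrading n A) (MvPolynomial.isHomogeneous_X A j) l P hP)) =
      Proj.awayToSection (CohB1.polyGrading m A) (F j)
        (Away.mk (CohB1.polyGrading m A) (hF j) l (MvPolynomial.aeval (R := A) F P) hP') := by
  have key : ∀ (g' : MvPolynomial (Fin (m + 1)) A) (hg' : MvPolynomial.aeval (R := A) F (MvPolynomial.X j) = g')
      (hgd : g' ∈ CohB1.polyGrading m A d)
      (hle : Proj.basicOpen (CohB1.polyGrading m A) g' ≤ V hd F hF hspan ⁻¹ᵁ Dp (Fin (n + 1)) A j),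
      (V hd F hF hspan).appLE (Dp (Fin (n + 1)) A j) (Proj.basicOpen (CohB1.polyGrading m A) g') hle
      (Proj.awayToSection (CohB1.polyGrading n A) (MvPolynomial.X j)
        (Away.mk (CohB1.polyGrading n A) (MvPolynomial.isHomogeneous_X A j) l P hP)) =
      Proj.awayToSection (CohB1.polyGrading m A) g'
        (Away.mk (CohB1.polyGrading m A) hgd l (MvPolynomial.aeval (R := A) F P) hP') := by
    rintro g' rfl hgd hle
    have h1 := K591.VerStruct.awayToSection_appLE (V hd F hF hspan)
      (MvPolynomial.isHomogeneous_X A j : MvPolynomial.X j ∈ CohB1.polyGrading n A 1) one_pos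
      (map_mem' (CohB1.polyGrading m A) (CohB1.polyGrading n A) (MvPolynomial.aeval (R := A) F)
        (map_aeval_eq F hF hspan) (MvPolynomial.isHomogeneous_X A j)) (Nat.mul_pos one_pos hd)
      (CommRingCat.ofHom (theta (CohB1.polyGrading m A) (CohB1.polyGrading n A)
        (MvPolynomial.aeval (R := A) F) (map_aeval_eq F hF hspan) (MvPolynomial.X j)))
      (awayι_fwd _ _ hd _ (map_aeval_eq F hF hspan) one_pos (MvPolynomial.X j) (MvPolynomial.isHomogeneous_X A j))
      hle
    have h2 := ConcreteCategory.congr_hom h1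
      (Away.mk (CohB1.polyGrading n A) (MvPolynomial.isHomogeneous_X A j) l P hP)
    refine h2.trans ?_
    refine congrArg (Proj.awayToSection (CohB1.polyGrading m A) _).hom ?_
    refine (theta_mk _ _ _ (map_aeval_eq F hF hspan) _ _ l P hP).trans ?_
    apply HomogeneousLocalization.val_injective
    rw [Away.val_mk, Away.val_mk]
  exact key (F j) (MvPolynomial.aeval_X _ _) (hF j) hle

theorem V_ratio (i j : Fin (n + 1))
    (hle : Proj.basicOpen (CohB1.polyGrading m A) (F i) ≤ V hd F hF hspan ⁻¹ᵁ Dp (Fin (n + 1)) A i) :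
    (V hd F hF hspan).appLE (Dp (Fin (n + 1)) A i) (Proj.basicOpen (CohB1.polyGrading m A) (F i)) hle
      (ProjStd.ratio (Fin (n + 1)) A i j) =
      Proj.awayToSection (CohB1.polyGrading m A) (F i)
        (Away.mk (CohB1.polyGrading m A) (hF i) 1 (F j) (by rw [one_smul]; exact hF j)) := by
  have h1 : ProjStd.ratio (Fin (n + 1)) A i j = Proj.awayToSection (CohB1.polyGrading n A) (MvPolynomial.X i)
        (Away.mk (CohB1.polyGrading n A) (MvPolynomial.isHomogeneous_X A i) 1 (MvPolynomial.X j)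
          (by rw [one_smul]; exact MvPolynomial.isHomogeneous_X A j)) := by
    rw [ProjStd.ratio, ProjStd.deh_of_isHomogeneous (Fin (n + 1)) A i (n := 1) (MvPolynomial.X j)
      (by rw [one_smul]; exact MvPolynomial.isHomogeneous_X A j)]
  rw [h1]
  refine (V_appLE hd F hF hspan i hle (l := 1) (MvPolynomial.X j) _
    (by rw [MvPolynomial.aeval_X, one_smul]; exact hF j)).trans ?_
  congr 2
  exact MvPolynomial.aeval_X _ _

theorem appTop_surjective {X Y : Scheme.{u}} (f : X ⟶ Y) (U : Y.Opens)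
    (h : Function.Surjective (f.app U)) : Function.Surjective (f ∣_ U).appTop := by
  rw [morphismRestrict_appTop]
  have h1 : ∀ W : Y.Opens, W = U → Function.Surjective (f.app W) := by
    rintro _ rfl
    exact h
  have h2 := h1 (U.ι ''ᵁ ⊤) (by simp)
  intro z
  obtain ⟨w, hw⟩ := ((ConcreteCategory.bijective_of_isIso (X.presheaf.map (eqToHom
    (image_morphismRestrict_preimage f U ⊤)).op))).2 z
  obtain ⟨v, rfl⟩ := h2 w
  exact ⟨v, hw⟩

theorem V_app_surjective (j : Fin (n + 1)) :
    Function.Surjective ((V hd F hF hspan).app (Dp (Fin (n + 1)) A j)) := by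
  have hpre := V_preimage hd F hF hspan j
  have h1 : Function.Surjective ((V hd F hF hspan).appLE (Dp (Fin (n + 1)) A j)
      (Proj.basicOpen (CohB1.polyGrading m A) (F j)) hpre.ge) := by
    intro z
    obtain ⟨y, rfl⟩ : ∃ y, Proj.awayToSection (CohB1.polyGrading m A) (F j) y = z := by
      have h2 : IsIso (Proj.awayToSection (CohB1.polyGrading m A) (F j)) := by
        rw [← Proj.basicOpenIsoAway_hom (CohB1.polyGrading m A) (F j) (hF j) hd]
        infer_instance
      exact (ConcreteCategory.bijective_of_isIso (Proj.awayToSection (CohB1.polyGrading m A) (F j))).2 z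
    obtain ⟨k, a, ha, rfl⟩ := Away.mk_surjective (CohB1.polyGrading m A) (hF j) y
    have ha' : a ∈ Submodule.map (MvPolynomial.aeval (R := A) F).toLinearMap
        (CohB1.polyGrading n A (k • 1)) := by
      rw [map_aeval_eq F hF hspan]
      simpa using ha
    obtain ⟨P, hP, rfl⟩ := ha'
    exact ⟨_, V_appLE hd F hF hspan j hpre.ge P hP ha⟩
  intro z
  obtain ⟨w, hw⟩ := h1 ((CohB1.ProjSpace m A).presheaf.map (homOfLE hpre.ge).op z)
  refine ⟨w, ?_⟩
  have h3 : Function.Injective ((CohB1.ProjSpace m A).presheaf.map (homOfLE hpre.ge).op) := by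
    have : homOfLE hpre.ge = eqToHom hpre.symm := rfl
    rw [this]
    exact (ConcreteCategory.bijective_of_isIso _).1
  apply h3
  exact hw

instance isClosedImmersion_V : IsClosedImmersion (V hd F hF hspan) := by
  have hcov : ⨆ i, ((⟨Dp (Fin (n + 1)) A i, Proj.isAffineOpen_basicOpen (CohB1.polyGrading n A) _
      (MvPolynomial.isHomogeneous_X A i) one_pos⟩ : (CohB1.ProjSpace n A).affineOpens) :
      (CohB1.ProjSpace n A).Opens) = ⊤ := CoordData.iSup_basicOpen_X (Fin (n + 1)) A
  refine (HasAffineProperty.iff_of_iSup_eq_top (P := @IsClosedImmersion) _ hcov).2 fun i => ?_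
  refine ⟨?_, appTop_surjective _ _ (V_app_surjective hd F hF hspan i)⟩
  have h1 : IsAffineOpen (V hd F hF hspan ⁻¹ᵁ Dp (Fin (n + 1)) A i) := by
    rw [V_preimage]
    exact Proj.isAffineOpen_basicOpen (CohB1.polyGrading m A) _ (hF i) hd
  exact h1

end V

section gen

open Groth.Agent.Ega2 HomogeneousLocalization

variable {A : Type u} [CommRing A] {m n d : ℕ}

/-- A form of degree `d` as a global section of `O(d)`. -/
noncomputable abbrev gl (G : CohB1.polyGrading m A d) : Γ(Twist.twistProjSpace m A (d : ℤ), ⊤) :=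
  Twist.globalOf (CohB1.polyGrading m A) G

theorem isGen_gl (G : CohB1.polyGrading m A d) {U : (CohB1.ProjSpace m A).Opens}
    (hU : U ≤ Proj.basicOpen (CohB1.polyGrading m A) G.1) :
    IsGen (res (Twist.twistProjSpace m A (d : ℤ)) (le_top : U ≤ ⊤) (gl G)) :=
  TwistBasic.isGen_fracSec (𝒜 := CohB1.polyGrading m A) (d : ℤ) G
    (⟨1, SetLike.GradedOne.one_mem⟩ : CohB1.polyGrading m A 0) (by simp) U
    (fun x _ => VeryAmpleCrit.one_notMem _ x) (fun x hx => hU hx)

/-- The function `G' / G` on `D_+(G)`. -/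
noncomputable def quot (G G' : CohB1.polyGrading m A d) :
    Γ(CohB1.ProjSpace m A, Proj.basicOpen (CohB1.polyGrading m A) G.1) :=
  Proj.awayToSection (CohB1.polyGrading m A) G.1 (Away.mk _ G.2 1 G'.1 (by rw [one_smul]; exact G'.2))

theorem res_gl (G G' : CohB1.polyGrading m A d) :
    res (Twist.twistProjSpace m A (d : ℤ))
      (le_top : Proj.basicOpen (CohB1.polyGrading m A) G.1 ≤ ⊤) (gl G') =
    quot G G' • res (Twist.twistProjSpace m A (d : ℤ))
        (le_top : Proj.basicOpen (CohB1.polyGrading m A) G.1 ≤ ⊤) (gl G) := by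
  refine Subtype.ext (funext fun x => Subtype.ext ?_)
  refine Eq.trans ?_ (TwistBasic.smulS_val (𝒜 := CohB1.polyGrading m A) (d : ℤ) (quot G G')
    (res (Twist.twistProjSpace m A (d : ℤ))
        (le_top : Proj.basicOpen (CohB1.polyGrading m A) G.1 ≤ ⊤) (gl G)) x).symm
  have h1 : G.1 ^ 1 ∉ x.1.asHomogeneousIdeal.toIdeal := by rw [pow_one]; exact x.2
  refine Eq.trans ?_ (congrArg (fun z => z * Localization.mk G.1
    (⟨1, VeryAmpleCrit.one_notMem (CohB1.polyGrading m A) x.1⟩ :
      x.1.asHomogeneousIdeal.toIdeal.primeCompl))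
      (K591.VerStruct.ev_awayToSection_mk G.2 1 G'.1 (by rw [one_smul]; exact G'.2) x.1 x.2 h1)).symm
  refine Eq.trans ?_ (Localization.mk_mul _ _ _ _).symm
  refine Localization.mk_eq_mk_iff.mpr ((Localization.r_iff_exists).mpr ⟨1, ?_⟩)
  simp
  ring

end gen

section given

open Groth.Agent.Ega2 HomogeneousLocalization

variable {A : Type u} [CommRing A] {m n d : ℕ} (hd : 0 < d) (F : Fin (n + 1) → MvPolynomial (Fin (m + 1)) A)
  (hF : ∀ j, F j ∈ CohB1.polyGrading m A d)
  (hspan : CohB1.polyGrading m A d ≤ Submodule.span A (Set.range F))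

/-- `V` is given by the forms `F`. -/
theorem givenBy_V : GivenBy (V hd F hF hspan) (Twist.twistProjSpace m A (d : ℤ))
    (fun j => gl ⟨F j, hF j⟩) := by
  refine givenBy_of_ratio _ _ _ (fun i => isGen_gl _ (V_preimage hd F hF hspan i).le) fun i j => ?_
  have h1 := congrArg (res (Twist.twistProjSpace m A (d : ℤ)) (V_preimage hd F hF hspan i).le)
    (res_gl ⟨F i, hF i⟩ ⟨F j, hF j⟩)
  rw [res_res, res_smul, res_res] at h1
  refine h1.trans ?_
  congr 1
  have h2 := V_ratio hd F hF hspan i j (V_preimage hd F hF hspan i).ge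
  have h3 := Scheme.Hom.appLE_map (V hd F hF hspan) (V_preimage hd F hF hspan i).ge
    (homOfLE (V_preimage hd F hF hspan i).le).op
  have h4 := congrArg (fun q : Γ(CohB1.ProjSpace n A, Dp (Fin (n + 1)) A i) ⟶
    Γ(CohB1.ProjSpace m A, V hd F hF hspan ⁻¹ᵁ Dp (Fin (n + 1)) A i) =>
      q (ProjStd.ratio (Fin (n + 1)) A i j)) h3
  refine Eq.trans ?_ h4
  exact congrArg (ores (V_preimage hd F hF hspan i).le) h2.symm

end given

end K387.FormProj
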