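import Groth.Agent.Fano.K387.FormProj
import Groth.Agent.EssDim.K995.ConicEmb

/-!
# Morphisms given by forms: base change, binary forms, factoring through a hypersurface

* `givenBy_pmap`: the base change of `V` is given by the base changed forms.
* `bf c j`: binary forms with prescribed coefficients; `bf_span`.
* `V_app_eq_zero`: `P(F) = 0` implies that `P / X_j^e` pulls back to `0`.
-/

set_option autoImplicit false
universe u
open CategoryTheory CategoryTheory.Limits AlgebraicGeometry TopologicalSpace Opposite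

namespace K387.FormProj

open Groth.Agent.Fdesc.LocGen Groth.Agent.Dix.ProjProper
open Groth.Agent.VarietyB Groth.Agent.VarietyB.ProjGlue
open Groth.Agent.Ega2.H295.PnUniq Groth.Agent.Ega2.H295.PnCoord
open Groth.Agent.Lefpen.H872.RelBase Groth.Agent.Lefpen.H872.RelCI Groth.Agent.CohqB.ProjBC
open K390.PnSec HomogeneousLocalization

attribute [local instance] MvPolynomial.gradedAlgebra

section bc

variable {A B : Type u} [CommRing A] [CommRing B] (φ : A →+* B) {m n d : ℕ}

theorem pmap_preimage (G : MvPolynomial (Fin (m + 1)) A) :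
    pmap φ m ⁻¹ᵁ Proj.basicOpen (CohB1.polyGrading m A) G =
      Proj.basicOpen (CohB1.polyGrading m B) (MvPolynomial.map φ G) :=
  Proj.map_preimage_basicOpen (gmap φ m) (irrelevant_le φ m) G

/-- The base change of a form. -/
noncomputable abbrev mapF (G : CohB1.polyGrading m A d) : CohB1.polyGrading m B d :=
  ⟨MvPolynomial.map φ G.1, (gmap φ m).map_mem G.2⟩

theorem appLE_quot (G G' : CohB1.polyGrading m A d) :
    (pmap φ m).appLE (Proj.basicOpen (CohB1.polyGrading m A) G.1)
      (Proj.basicOpen (CohB1.polyGrading m B) (mapF φ G).1) (pmap_preimage φ G.1).ge (quot G G') =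
      quot (mapF φ G) (mapF φ G') := by
  have h1 := Proj.awayToSection_comp_appLE (gmap φ m) (irrelevant_le φ m) G.2
  have h2 := ConcreteCategory.congr_hom h1
    (HomogeneousLocalization.Away.mk (CohB1.polyGrading m A) G.2 1 G'.1 (by rw [one_smul]; exact G'.2))
  refine h2.trans ?_
  change (Proj.awayToSection (CohB1.polyGrading m B) _).hom
    (HomogeneousLocalization.Away.map (gmap φ m) _ _) = _
  rw [HomogeneousLocalization.Away.map_mk]
  rfl

theorem appLE_ratio (i j : Fin (n + 1)) :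
    (pmap φ n).appLE (Dp (Fin (n + 1)) A i) (Dp (Fin (n + 1)) B i) (preimage_chart φ i).ge
      (ProjStd.ratio (Fin (n + 1)) A i j) = ProjStd.ratio (Fin (n + 1)) B i j := by
  have key : ∀ (C : Type u) [CommRing C], ProjStd.ratio (Fin (n + 1)) C i j =
      rdehom (⟨MvPolynomial.X j, MvPolynomial.isHomogeneous_X C j⟩ : RForm n C 1) i := by
    intro C _
    rw [ProjStd.ratio, ProjStd.deh_of_isHomogeneous (Fin (n + 1)) C i (n := 1) (MvPolynomial.X j)
      (by rw [one_smul]; exact MvPolynomial.isHomogeneous_X C j)]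
    rfl
  rw [key A, key B]
  refine (appLE_dehom φ _ i).trans ?_
  congr 1
  exact Subtype.ext (MvPolynomial.map_X φ j)

end bc

section comp

variable {A B C : Type u} [CommRing A] [CommRing B] [CommRing C] (σ : B →+* A) (μ : A →+* C) {m n d : ℕ} (hd : 0 < d)
  (F : Fin (n + 1) → MvPolynomial (Fin (m + 1)) A)
  (hF : ∀ j, F j ∈ CohB1.polyGrading m A d)
  (hspan : CohB1.polyGrading m A d ≤ Submodule.span A (Set.range F))

theorem comp_preimage (i : Fin (n + 1)) :
    (pmap μ m ≫ V hd F hF hspan ≫ pmap σ n) ⁻¹ᵁ Dp (Fin (n + 1)) B i =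
      Proj.basicOpen (CohB1.polyGrading m C) (mapF μ ⟨F i, hF i⟩).1 := by
  rw [Scheme.Hom.comp_preimage, Scheme.Hom.comp_preimage]
  have h1 : pmap σ n ⁻¹ᵁ Dp (Fin (n + 1)) B i = Dp (Fin (n + 1)) A i := preimage_chart σ i
  rw [h1, V_preimage]
  exact pmap_preimage μ (F i)

/-- The base change of `V` is given by the base changed forms. -/
theorem givenBy_pmap : GivenBy (pmap μ m ≫ V hd F hF hspan ≫ pmap σ n) (Twist.twistProjSpace m C (d : ℤ))
    (fun j => gl (mapF μ ⟨F j, hF j⟩)) := by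
  refine givenBy_of_ratio _ _ _ (fun i => isGen_gl _ (comp_preimage σ μ hd F hF hspan i).le) fun i j => ?_
  have h1 := congrArg (res (Twist.twistProjSpace m C (d : ℤ)) (comp_preimage σ μ hd F hF hspan i).le)
    (res_gl (mapF μ ⟨F i, hF i⟩) (mapF μ ⟨F j, hF j⟩))
  rw [res_res, res_smul, res_res] at h1
  refine h1.trans ?_
  congr 1
  have h2 := appLE_quot μ ⟨F i, hF i⟩ ⟨F j, hF j⟩
  have h3 := V_ratio hd F hF hspan i j (V_preimage hd F hF hspan i).ge
  have h4 := appLE_ratio σ (n := n) i j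
  have e1 := Scheme.Hom.appLE_comp_appLE (V hd F hF hspan) (pmap σ n) (Dp (Fin (n + 1)) B i)
    (Dp (Fin (n + 1)) A i) (Proj.basicOpen (CohB1.polyGrading m A) (F i)) (preimage_chart σ i).ge
    (V_preimage hd F hF hspan i).ge
  have hle : Proj.basicOpen (CohB1.polyGrading m A) (F i) ≤
      (V hd F hF hspan ≫ pmap σ n) ⁻¹ᵁ Dp (Fin (n + 1)) B i := by
    rw [Scheme.Hom.comp_preimage]
    have h1 : pmap σ n ⁻¹ᵁ Dp (Fin (n + 1)) B i = Dp (Fin (n + 1)) A i := preimage_chart σ i
    rw [h1, V_preimage]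
  have e2 := Scheme.Hom.appLE_comp_appLE (pmap μ m) (V hd F hF hspan ≫ pmap σ n) (Dp (Fin (n + 1)) B i)
    (Proj.basicOpen (CohB1.polyGrading m A) (F i))
    (Proj.basicOpen (CohB1.polyGrading m C) (mapF μ ⟨F i, hF i⟩).1) hle (pmap_preimage μ (F i)).ge
  have e3 := Scheme.Hom.appLE_map (pmap μ m ≫ V hd F hF hspan ≫ pmap σ n)
    (comp_preimage σ μ hd F hF hspan i).ge (homOfLE (comp_preimage σ μ hd F hF hspan i).le).op
  have h5 := congrArg (fun q : Γ(CohB1.ProjSpace n B, Dp (Fin (n + 1)) B i) ⟶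
    Γ(CohB1.ProjSpace m C, (pmap μ m ≫ V hd F hF hspan ≫ pmap σ n) ⁻¹ᵁ Dp (Fin (n + 1)) B i) =>
      q (ProjStd.ratio (Fin (n + 1)) B i j)) e3
  refine Eq.trans ?_ h5
  refine congrArg (ores (comp_preimage σ μ hd F hF hspan i).le) ?_
  refine h2.symm.trans ?_
  have h6 := congrArg (fun q : Γ(CohB1.ProjSpace n B, Dp (Fin (n + 1)) B i) ⟶
    Γ(CohB1.ProjSpace m C, Proj.basicOpen (CohB1.polyGrading m C) (mapF μ ⟨F i, hF i⟩).1) =>
      q (ProjStd.ratio (Fin (n + 1)) B i j)) e2
  refine Eq.trans ?_ h6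
  refine congrArg ((pmap μ m).appLE (Proj.basicOpen (CohB1.polyGrading m A) (F i))
    (Proj.basicOpen (CohB1.polyGrading m C) (mapF μ ⟨F i, hF i⟩).1) (pmap_preimage μ (F i)).ge) ?_
  have h7 := congrArg (fun q : Γ(CohB1.ProjSpace n B, Dp (Fin (n + 1)) B i) ⟶
    Γ(CohB1.ProjSpace m A, Proj.basicOpen (CohB1.polyGrading m A) (F i)) =>
      q (ProjStd.ratio (Fin (n + 1)) B i j)) e1
  refine Eq.trans ?_ h7
  refine h3.symm.trans ?_
  exact congrArg _ h4.symm

/-- The pullback of a fraction `P / X_j^e` with `P(F) = 0` vanishes. -/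
theorem V_app_eq_zero {e : ℕ} (P : RForm n A e) (h0 : MvPolynomial.aeval (R := A) F P.1 = 0) (j : Fin (n + 1)) :
    (V hd F hF hspan).app (Dp (Fin (n + 1)) A j) (rdehom P j) = 0 := by
  have h1 := V_appLE hd F hF hspan j (V_preimage hd F hF hspan j).ge (l := e) P.1
    (by rw [smul_eq_mul, mul_one]; exact P.2) (by rw [h0]; exact Submodule.zero_mem _)
  have h2 : Function.Injective ((CohB1.ProjSpace m A).presheaf.map
      (homOfLE (V_preimage hd F hF hspan j).ge).op) := by
    have : homOfLE (V_preimage hd F hF hspan j).ge = eqToHom (V_preimage hd F hF hspan j).symm := rfl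
    rw [this]
    exact (ConcreteCategory.bijective_of_isIso _).1
  apply h2
  rw [map_zero]
  refine h1.trans ?_
  refine (congrArg (Proj.awayToSection (CohB1.polyGrading m A) (F j)).hom (?_ : (_ : Away (CohB1.polyGrading m A) (F j)) = 0)).trans (map_zero _)
  apply HomogeneousLocalization.val_injective
  rw [Away.val_mk, HomogeneousLocalization.val_zero, h0]
  exact Localization.mk_zero _

end comp

section binary

variable {A : Type u} [CommRing A] {n d : ℕ}

/-- The binary forms of degree `d` with coefficients `c`. -/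
noncomputable def bf (c : Fin (d + 1) → Fin (n + 1) → A) (j : Fin (n + 1)) : MvPolynomial (Fin 2) A :=
  ∑ m : Fin (d + 1), MvPolynomial.C (c m j) *
      (MvPolynomial.X 0 ^ (d - (m : ℕ)) * MvPolynomial.X 1 ^ (m : ℕ))

theorem bf_mem (c : Fin (d + 1) → Fin (n + 1) → A) (j : Fin (n + 1)) : bf c j ∈ CohB1.polyGrading 1 A d := by
  refine Submodule.sum_mem _ fun m _ => (MvPolynomial.mem_homogeneousSubmodule _ _).mpr ?_
  have h1 := ((MvPolynomial.isHomogeneous_X A (0 : Fin 2)).pow (d - (m : ℕ))).mul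
    ((MvPolynomial.isHomogeneous_X A (1 : Fin 2)).pow (m : ℕ))
  have h2 := (MvPolynomial.isHomogeneous_C (Fin 2) (c m j)).mul h1
  have e : 0 + (1 * (d - (m : ℕ)) + 1 * (m : ℕ)) = d := by have := m.2; omega
  rw [e] at h2
  exact h2

theorem le_span_mono : CohB1.polyGrading 1 A d ≤ Submodule.span A (Set.range fun m : Fin (d + 1) =>
    (MvPolynomial.X 0 ^ (d - (m : ℕ)) * MvPolynomial.X 1 ^ (m : ℕ) : MvPolynomial (Fin 2) A)) := by
  intro P hP
  rw [P.as_sum]
  refine Submodule.sum_mem _ fun s hs => ?_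
  have h1 : s.degree = d := by
    have := (MvPolynomial.mem_homogeneousSubmodule _ _).mp hP (MvPolynomial.mem_support_iff.mp hs)
    rw [Finsupp.degree_eq_weight_one]
    exact this
  have h2 : s 0 + s 1 = d := by
    rw [← h1, Finsupp.degree_eq_sum, Fin.sum_univ_two]
  have h3 : MvPolynomial.monomial s (P.coeff s) = P.coeff s •
      (MvPolynomial.X 0 ^ (d - s 1) * MvPolynomial.X 1 ^ (s 1) : MvPolynomial (Fin 2) A) := by
    rw [MvPolynomial.monomial_eq, Finsupp.prod_fintype _ _ (by simp), Fin.prod_univ_two,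
      MvPolynomial.C_mul']
    congr 3
    omega
  rw [h3]
  refine Submodule.smul_mem _ _ (Submodule.subset_span ⟨⟨s 1, by omega⟩, rfl⟩)

/-- Binary forms with a right invertible coefficient matrix span all binary forms of the same degree. -/
theorem bf_span (c : Fin (d + 1) → Fin (n + 1) → A) (b : Fin (d + 1) → Fin (n + 1) → A)
    (hb : ∀ m m', ∑ j, b m' j * c m j = if m = m' then 1 else 0) :
    CohB1.polyGrading 1 A d ≤ Submodule.span A (Set.range (bf c)) := by
  refine le_span_mono.trans ?_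
  rw [Submodule.span_le]
  rintro _ ⟨m', rfl⟩
  have h : (MvPolynomial.X 0 ^ (d - (m' : ℕ)) * MvPolynomial.X 1 ^ (m' : ℕ) : MvPolynomial (Fin 2) A) =
      ∑ j, b m' j • bf c j := by
    simp only [bf, Finset.smul_sum, MvPolynomial.smul_eq_C_mul, ← mul_assoc, ← map_mul]
    rw [Finset.sum_comm]
    simp only [← Finset.sum_mul, ← map_sum, hb]
    simp
  have h' : ∑ j, b m' j • bf c j ∈ Submodule.span A (Set.range (bf c)) :=
    Submodule.sum_mem _ fun j _ => Submodule.smul_mem _ _ (Submodule.subset_span ⟨j, rfl⟩)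
  rw [← h] at h'
  exact h'

end binary

end K387.FormProj
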