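import Groth.Agent.Fano.K387.RatNormal
import Groth.Agent.Fano.K434.HilbFam
import Groth.Agent.Fga.HilbClosed
import Groth.Agent.Sga5.ProjSmooth

/-!
# The tautological family of parametrised rational normal curves (job R3)

* `exists_j`, `isClosedImmersion_lift`, `isPar_of`: a matrix of coefficients over a `k`-algebra `R`, with a left inverse,
  whose curve lies on `V_+(f)`, gives a family of parametrised rational normal curves over `Spec R`.
* `exists_poly_of_mem_open`.
-/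

set_option autoImplicit false
universe u
open CategoryTheory CategoryTheory.Limits AlgebraicGeometry TopologicalSpace Opposite

namespace K387.RatFam

open Groth.Agent.Fano.K714.Rat K387.FormProj K387.RatNormal K390.PnSec
open Groth.Agent.Lefpen.H872.RelCI Groth.Agent.Lefpen.H872.RelBase Groth.Agent.CohqB.ProjBC

attribute [local instance] MvPolynomial.gradedAlgebra

section rel

variable {k : Type u} [Field k] {R : Type u} [CommRing R] (σ : k →+* R) {d : ℕ} (hd : 1 ≤ d) (f : LefPen.Form 4 k 3)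
  (c b : Fin (d + 1) → Fin 5 → R) (hb : ∀ m m', ∑ j, b m' j * c m j = if m = m' then 1 else 0)

/-- The morphism `P^1_R → P^4_R`. -/
noncomputable abbrev VR : CohB1.ProjSpace 1 R ⟶ CohB1.ProjSpace 4 R :=
  V hd (bf (n := 4) c) (bf_mem (n := 4) c) (bf_span (n := 4) c b hb)

theorem exists_j (h0 : MvPolynomial.aeval (R := R) (bf (n := 4) c) (MvPolynomial.map σ f.1) = 0) :
    ∃ j : CohB1.ProjSpace 1 R ⟶ Xf f, j ≫ emb f = VR hd c b hb ≫ pmap σ 4 := by
  refine exists_lift f _ fun i => ?_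
  have h1 := appLE_dehom σ (r := 4) (show RForm 4 k 3 from f) i
  have h2 := V_app_eq_zero hd (bf (n := 4) c) (bf_mem (n := 4) c) (bf_span (n := 4) c b hb)
    (mapForm σ (show RForm 4 k 3 from f)) h0 i
  have key : ∀ (U : (CohB1.ProjSpace 4 k).Opens) (W : (CohB1.ProjSpace 4 R).Opens)
      (hW : pmap σ 4 ⁻¹ᵁ U = W) (x : Γ(CohB1.ProjSpace 4 k, U)),
      (VR hd c b hb).app W ((pmap σ 4).appLE U W hW.ge x) = 0 →
        (VR hd c b hb ≫ pmap σ 4).app U x = 0 := by
    rintro U _ rfl x hx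
    refine Eq.trans ?_ hx
    rw [← Scheme.Hom.app_eq_appLE, Scheme.Hom.comp_app]
    rfl
  refine key (LefPen.chart 4 k i) (rchart 4 R i) (preimage_chart σ i) (LefPen.dehom f i) ?_
  refine (congrArg ((VR hd c b hb).app (rchart 4 R i)) h1).trans h2

theorem j_comp {j : CohB1.ProjSpace 1 R ⟶ Xf f} (hj : j ≫ emb f = VR hd c b hb ≫ pmap σ 4) :
    j ≫ ps f = CohB1.ProjSpace.toSpec 1 R ≫ Spec.map (CommRingCat.ofHom σ) := by
  have h1 : j ≫ ps f = (j ≫ emb f) ≫ CohB1.ProjSpace.toSpec 4 k := (Category.assoc _ _ _).symm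
  rw [h1, hj, Category.assoc, pmap_toSpec, ← Category.assoc, V_toSpec]

theorem isClosedImmersion_lift {j : CohB1.ProjSpace 1 R ⟶ Xf f} (hj : j ≫ emb f = VR hd c b hb ≫ pmap σ 4)
    (hjw : j ≫ ps f = CohB1.ProjSpace.toSpec 1 R ≫ Spec.map (CommRingCat.ofHom σ)) :
    IsClosedImmersion (pullback.lift j (CohB1.ProjSpace.toSpec 1 R) hjw) := by
  have hw : (pullback.fst (ps f) (Spec.map (CommRingCat.ofHom σ)) ≫ emb f) ≫ CohB1.ProjSpace.toSpec 4 k =
      pullback.snd (ps f) (Spec.map (CommRingCat.ofHom σ)) ≫ Spec.map (CommRingCat.ofHom σ) :=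
    (Category.assoc _ _ _).trans pullback.condition
  let g := (isPullback_pmap σ 4).lift (pullback.fst (ps f) (Spec.map (CommRingCat.ofHom σ)) ≫ emb f)
    (pullback.snd (ps f) (Spec.map (CommRingCat.ofHom σ))) hw
  have hg1 : g ≫ pmap σ 4 = pullback.fst (ps f) (Spec.map (CommRingCat.ofHom σ)) ≫ emb f :=
    (isPullback_pmap σ 4).lift_fst _ _ _
  have hg2 : g ≫ CohB1.ProjSpace.toSpec 4 R = pullback.snd (ps f) (Spec.map (CommRingCat.ofHom σ)) :=
    (isPullback_pmap σ 4).lift_snd _ _ _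
  have hg : pullback.lift j (CohB1.ProjSpace.toSpec 1 R) hjw ≫ g = VR hd c b hb := by
    refine (isPullback_pmap σ 4).hom_ext ?_ ?_
    · rw [Category.assoc, hg1, pullback.lift_fst_assoc, hj]
    · rw [Category.assoc, hg2, pullback.lift_snd, V_toSpec]
  have h1 : IsClosedImmersion (pullback.lift j (CohB1.ProjSpace.toSpec 1 R) hjw ≫ g) := by
    rw [hg]
    infer_instance
  have h2 : IsSeparated g := by
    have h3 : IsSeparated (ps f) := by
      have : IsSeparated (CohB1.ProjSpace.toSpec 4 k) := by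
        have := Groth.Agent.Ega3B.ProjProper.isProper_toSpec 4 k
        infer_instance
      infer_instance
    have h4 : IsSeparated (g ≫ CohB1.ProjSpace.toSpec 4 R) := by
      rw [hg2]
      infer_instance
    exact IsSeparated.of_comp g (CohB1.ProjSpace.toSpec 4 R)
  exact IsClosedImmersion.of_comp _ g

theorem isPar_of {j : CohB1.ProjSpace 1 R ⟶ Xf f} (hj : j ≫ emb f = VR hd c b hb ≫ pmap σ 4)
    (μ : R →+* k) (hμ : μ.comp σ = RingHom.id k) :
    IsPar f d (fun m i => μ (c m i)) (pmap μ 1 ≫ j) := by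
  refine ⟨?_, ?_⟩
  · rw [Category.assoc, j_comp σ hd f c b hb hj, ← Category.assoc, pmap_toSpec, Category.assoc, ← Spec.map_comp,
      ← CommRingCat.ofHom_comp, hμ]
    exact (congrArg (CohB1.ProjSpace.toSpec 1 k ≫ ·) (Spec.map_id _)).trans (Category.comp_id _)
  · have h := givenBy_pmap σ μ hd (bf (n := 4) c) (bf_mem (n := 4) c) (bf_span (n := 4) c b hb)
    rw [Category.assoc, hj]
    have e : ∀ i, mapF μ ⟨bf (n := 4) c i, bf_mem (n := 4) c i⟩ = bform (fun m i => μ (c m i)) i := by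
      intro i
      refine Subtype.ext ?_
      change MvPolynomial.map μ (bf (n := 4) c i) = _
      simp [bf, bform, map_sum]
    simp only [e] at h
    exact h

end rel

theorem flat_toSpec (A : Type u) [CommRing A] : Flat (CohB1.ProjSpace.toSpec 1 A) := by
  have := Groth.Agent.Sga5.ProjSmooth.smooth_toSpec 1 A
  have : Smooth (CohB1.ProjSpace.toSpec 1 A) := SmoothOfRelativeDimension.smooth 1 _
  infer_instance

section univ

theorem map_bf {A B : Type u} [CommRing A] [CommRing B] (π : A →+* B) {n d : ℕ} (c : Fin (d + 1) → Fin (n + 1) → A)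
    (j : Fin (n + 1)) : MvPolynomial.map π (bf c j) = bf (fun m i => π (c m i)) j := by
  simp [bf, map_sum]

theorem map_aeval_bf {A B : Type u} [CommRing A] [CommRing B] (π : A →+* B) {n d : ℕ}
    (c : Fin (d + 1) → Fin (n + 1) → A) (P : MvPolynomial (Fin (n + 1)) A) :
    MvPolynomial.map π (MvPolynomial.aeval (R := A) (bf c) P) =
      MvPolynomial.aeval (R := B) (bf fun m i => π (c m i)) (MvPolynomial.map π P) := by
  have h : (MvPolynomial.map π).comp (MvPolynomial.aeval (R := A) (bf c)).toRingHom =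
      (MvPolynomial.aeval (R := B) (bf fun m i => π (c m i))).toRingHom.comp (MvPolynomial.map π) := by
    apply MvPolynomial.ringHom_ext
    · intro a
      simp
    · intro j
      simp only [RingHom.comp_apply, AlgHom.toRingHom_eq_coe, RingHom.coe_coe, MvPolynomial.aeval_X,
        MvPolynomial.map_X]
      exact map_bf π c j
  exact RingHom.congr_fun h P

variable {k : Type u} [Field k] {d : ℕ}

/-- The polynomial ring in the coefficients of a parametrised curve. -/
abbrev N (k : Type u) [Field k] (d : ℕ) : Type u := MvPolynomial (Fin (d + 1) × Fin 5) k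

/-- `f` evaluated at the universal curve. -/
noncomputable def fu (f : LefPen.Form 4 k 3) (d : ℕ) : MvPolynomial (Fin 2) (N k d) :=
  MvPolynomial.aeval (R := N k d) (bf (n := 4) (fun (m : Fin (d + 1)) (j : Fin 5) =>
    (MvPolynomial.X (m, j) : N k d))) (MvPolynomial.map MvPolynomial.C f.1)

/-- The ideal of the scheme of parametrised curves on `V_+(f)`. -/
noncomputable def I (f : LefPen.Form 4 k 3) (d : ℕ) : Ideal (N k d) :=
  Ideal.span (Set.range fun s : Fin 2 →₀ ℕ => (fu f d).coeff s)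

/-- The matrix of products with the dual vectors. -/
noncomputable def Mat (b₀ : Fin (d + 1) → Fin 5 → k) : Matrix (Fin (d + 1)) (Fin (d + 1)) (N k d) :=
  Matrix.of fun m m' => ∑ j, MvPolynomial.C (b₀ m' j) * MvPolynomial.X (m, j)

/-- The localizing element. -/
noncomputable def Δ (b₀ : Fin (d + 1) → Fin 5 → k) : N k d := (Mat b₀).det

/-- The ring of the family. -/
abbrev Rf (f : LefPen.Form 4 k 3) (b₀ : Fin (d + 1) → Fin 5 → k) : Type u :=
  Localization.Away (Ideal.Quotient.mk (I f d) (Δ b₀))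

variable (f : LefPen.Form 4 k 3) (b₀ : Fin (d + 1) → Fin 5 → k)

instance : IsNoetherianRing (Rf f b₀) :=
  IsLocalization.isNoetherianRing (Submonoid.powers (Ideal.Quotient.mk (I f d) (Δ b₀))) _ inferInstance

/-- The canonical map. -/
noncomputable def π : N k d →+* Rf f b₀ :=
  (algebraMap (N k d ⧸ I f d) (Rf f b₀)).comp (Ideal.Quotient.mk (I f d))

/-- The structure map. -/
noncomputable def σf : k →+* Rf f b₀ := (π f b₀).comp MvPolynomial.C

/-- The coefficients over `Rf`. -/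
noncomputable def cR (m : Fin (d + 1)) (j : Fin 5) : Rf f b₀ := π f b₀ (MvPolynomial.X (m, j))

theorem aeval_zero : MvPolynomial.aeval (R := Rf f b₀) (bf (n := 4) (cR f b₀)) (MvPolynomial.map (σf f b₀) f.1) = 0 := by
  have h1 := map_aeval_bf (π f b₀) (n := 4) (fun (m : Fin (d + 1)) (j : Fin 5) =>
    (MvPolynomial.X (m, j) : N k d)) (MvPolynomial.map MvPolynomial.C f.1)
  rw [MvPolynomial.map_map] at h1
  refine h1.symm.trans ?_
  ext s
  rw [MvPolynomial.coeff_map, MvPolynomial.coeff_zero]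
  have h2 : (fu f d).coeff s ∈ I f d := Ideal.subset_span ⟨s, rfl⟩
  have h3 : Ideal.Quotient.mk (I f d) ((fu f d).coeff s) = 0 := Ideal.Quotient.eq_zero_iff_mem.mpr h2
  change algebraMap (N k d ⧸ I f d) (Rf f b₀) (Ideal.Quotient.mk (I f d) ((fu f d).coeff s)) = 0
  rw [h3, map_zero]

theorem isUnit_Δ : IsUnit (π f b₀ (Δ b₀)) :=
  IsLocalization.Away.algebraMap_isUnit (Ideal.Quotient.mk (I f d) (Δ b₀))

theorem exists_b : ∃ b : Fin (d + 1) → Fin 5 → Rf f b₀,
    ∀ m m', ∑ j, b m' j * cR f b₀ m j = if m = m' then 1 else 0 := by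
  classical
  let M : Matrix (Fin (d + 1)) (Fin (d + 1)) (Rf f b₀) := (Mat b₀).map (π f b₀)
  have hdet : IsUnit M.det := by
    have : M.det = π f b₀ (Δ b₀) := (RingHom.map_det (π f b₀) (Mat b₀)).symm
    rw [this]
    exact isUnit_Δ f b₀
  have hM : ∀ m l, M m l = ∑ j, σf f b₀ (b₀ l j) * cR f b₀ m j := by
    intro m l
    change π f b₀ (∑ j, MvPolynomial.C (b₀ l j) * MvPolynomial.X (m, j)) = _
    rw [map_sum]
    refine Finset.sum_congr rfl fun j _ => ?_
    rw [map_mul]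
    rfl
  refine ⟨fun m' j => ∑ l, M⁻¹ l m' * σf f b₀ (b₀ l j), fun m m' => ?_⟩
  have h1 : (M * M⁻¹) m m' = if m = m' then 1 else 0 := by
    rw [Matrix.mul_nonsing_inv _ hdet, Matrix.one_apply]
  rw [← h1, Matrix.mul_apply]
  simp only [Finset.sum_mul, hM]
  rw [Finset.sum_comm]
  refine Finset.sum_congr rfl fun l _ => ?_
  refine Finset.sum_congr rfl fun j _ => ?_
  ring

/-- The evaluation at a matrix. -/
noncomputable def evc (c : Fin (d + 1) → Fin 5 → k) : N k d →+* k := MvPolynomial.eval fun q => c q.1 q.2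

variable {f b₀}

theorem exists_point [Infinite k] {c : Fin (d + 1) → Fin 5 → k} (hc : c ∈ Par f d) (h : evc c (Δ b₀) ≠ 0) :
    ∃ μ : Rf f b₀ →+* k, μ.comp (π f b₀) = evc c := by
  have h1 : ∀ a ∈ I f d, evc c a = 0 := by
    intro a ha
    have h2 : I f d ≤ RingHom.ker (evc c) := by
      rw [I, Ideal.span_le]
      rintro _ ⟨s, rfl⟩
      change evc c ((fu f d).coeff s) = 0
      rw [← MvPolynomial.coeff_map, fu, map_aeval_bf (evc c) (n := 4), MvPolynomial.map_map]
      have e1 : (evc c).comp MvPolynomial.C = RingHom.id k := RingHom.ext fun a => by simp [evc]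
      have e2 : (fun (m : Fin (d + 1)) (i : Fin 5) => evc c (MvPolynomial.X (m, i))) = c := by
        funext m i
        simp [evc]
      have e3 := aeval_bform f hc.2
      rw [e1, MvPolynomial.map_id]
      refine (congrArg (MvPolynomial.coeff s) ?_).trans (MvPolynomial.coeff_zero s)
      refine Eq.trans ?_ e3
      rw [e2]
      rfl
    exact h2 ha
  let q : N k d ⧸ I f d →+* k := Ideal.Quotient.lift (I f d) (evc c) h1
  have hq : IsUnit (q (Ideal.Quotient.mk (I f d) (Δ b₀))) := by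
    rw [isUnit_iff_ne_zero]
    exact h
  refine ⟨IsLocalization.Away.lift (Ideal.Quotient.mk (I f d) (Δ b₀)) hq, ?_⟩
  refine RingHom.ext fun a => ?_
  exact (IsLocalization.Away.lift_eq (Ideal.Quotient.mk (I f d) (Δ b₀)) hq (Ideal.Quotient.mk (I f d) a))

end univ

section main

variable {k : Type u} [Field k] [IsAlgClosed k] [CharZero k]

theorem exists_poly_of_mem_open (f : LefPen.Form 4 k 3) (H : Over (Spec (CommRingCat.of k)))
    (Z : FGA.HilbSet (ps f) H)
    (hH : FGA.HilbRepresentedBy (ps f) H Z) {d : ℕ} (hd : 1 ≤ d) (A : H.left.Opens)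
    {c₀ : Fin (d + 1) → Fin 5 → k} (hc₀ : c₀ ∈ Par f d) {x₀ : ↥H.left} (hx₀ : IsClass f H Z d c₀ x₀)
    (hA : x₀ ∈ A) :
    ∃ G : MvPolynomial (Fin (d + 1) × Fin 5) k, MvPolynomial.eval (fun q => c₀ q.1 q.2) G ≠ 0 ∧
      ∀ c ∈ Par f d, MvPolynomial.eval (fun q => c q.1 q.2) G ≠ 0 →
        ∃ x ∈ A, IsClass f H Z d c x := by
  classical
  obtain ⟨b₀, hb₀⟩ := exists_dual (n := 4) hc₀.1
  obtain ⟨b, hb⟩ := exists_b f b₀
  obtain ⟨j, hj⟩ := exists_j (σf f b₀) hd f (cR f b₀) b hb (aeval_zero f b₀)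
  have hjw := j_comp (σf f b₀) hd f (cR f b₀) b hb hj
  have hcl := isClosedImmersion_lift (σf f b₀) hd f (cR f b₀) b hb hj hjw
  have hprop : IsProper (CohB1.ProjSpace.toSpec 1 (Rf f b₀)) :=
    Groth.Agent.Ega3B.ProjProper.isProper_toSpec 1 (Rf f b₀)
  have hflat : Flat (CohB1.ProjSpace.toSpec 1 (Rf f b₀)) := flat_toSpec _
  obtain ⟨g, hg⟩ := Groth.Agent.Fano.K434.HilbFam.exists_hom_of_family (ps f) H Z hH (Rf f b₀) (σf f b₀)
    (CohB1.ProjSpace.toSpec 1 (Rf f b₀)) j hjw hcl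
  -- points
  have hσ : ∀ (c : Fin (d + 1) → Fin 5 → k) (μ : Rf f b₀ →+* k), μ.comp (π f b₀) = evc c →
      μ.comp (σf f b₀) = RingHom.id k := by
    intro c μ hμ
    refine RingHom.ext fun a => ?_
    have := RingHom.congr_fun hμ (MvPolynomial.C a)
    refine this.trans ?_
    simp [evc]
  have hcR : ∀ (c : Fin (d + 1) → Fin 5 → k) (μ : Rf f b₀ →+* k), μ.comp (π f b₀) = evc c →
      (fun m i => μ (cR f b₀ m i)) = c := by
    intro c μ hμ
    funext m i
    have := RingHom.congr_fun hμ (MvPolynomial.X (m, i))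
    refine this.trans ?_
    simp [evc]
  have hSp : ∀ (c : Fin (d + 1) → Fin 5 → k) (μ : Rf f b₀ →+* k), μ.comp (π f b₀) = evc c →
      Spec.map (CommRingCat.ofHom μ) ≫ Spec.map (CommRingCat.ofHom (σf f b₀)) =
          𝟙 (Spec (CommRingCat.of k)) := by
    intro c μ hμ
    rw [← Spec.map_comp, ← CommRingCat.ofHom_comp, hσ c μ hμ]
    exact Spec.map_id _
  have hcls : ∀ (c : Fin (d + 1) → Fin 5 → k) (μ : Rf f b₀ →+* k) (hμ : μ.comp (π f b₀) = evc c),
      IsPar f d c (pmap μ 1 ≫ j) ∧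
      FGA.hilbPull (ps f) ((Over.homMk (Spec.map (CommRingCat.ofHom μ)) (hSp c μ hμ) :
            pt k ⟶ Over.mk (Spec.map (CommRingCat.ofHom (σf f b₀)))) ≫ g) Z.1 =
          (pmap μ 1 ≫ j).ker.comap (pullback.fst (ps f) (pt k).hom) := by
    intro c μ hμ
    refine ⟨?_, hg μ (hSp c μ hμ) _ (CohB1.ProjSpace.toSpec 1 k) (pmap μ 1) (isPullback_pmap μ 1)⟩
    have h := isPar_of (σf f b₀) hd f (cR f b₀) b hb hj μ (hσ c μ hμ)
    rw [hcR c μ hμ] at h
    exact h
  -- the point of `c₀`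
  have hΔ₀ : evc c₀ (Δ b₀) = 1 := by
    have h1 : evc c₀ (Δ b₀) = ((Mat b₀).map (evc c₀)).det := RingHom.map_det (evc c₀) (Mat b₀)
    have h2 : (Mat b₀).map (evc c₀) = 1 := by
      ext m m'
      rw [Matrix.map_apply, Matrix.one_apply, ← hb₀ m m']
      simp [Mat, evc]
    rw [h1, h2, Matrix.det_one]
  obtain ⟨μ₀, hμ₀⟩ := exists_point (b₀ := b₀) hc₀ (by rw [hΔ₀]; exact one_ne_zero)
  obtain ⟨hpar₀, hpull₀⟩ := hcls c₀ μ₀ hμ₀
  obtain ⟨h, i, hx, hi, hhi⟩ := hx₀
  have hii : i = pmap μ₀ 1 ≫ j := by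
    rw [← cancel_mono (emb f), emb_eq f hd hc₀.1 hi, emb_eq f hd hc₀.1 hpar₀]
  have hh : h = (Over.homMk (Spec.map (CommRingCat.ofHom μ₀)) (hSp c₀ μ₀ hμ₀) :
            pt k ⟶ Over.mk (Spec.map (CommRingCat.ofHom (σf f b₀)))) ≫ g := by
    have hLN : IsLocallyNoetherian (pt k).left :=
      inferInstanceAs (IsLocallyNoetherian (Spec (CommRingCat.of k)))
    refine (hH.2 (pt k) ⟨FGA.hilbPull (ps f) h Z.1, Groth.Agent.Fga.HilbClosed.mem_hilbPull (ps f) h Z⟩).unique rfl ?_
    exact hpull₀.trans (by rw [← hii]; exact hhi.symm)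
  have hx' : x₀ = g.left (Spec.map (CommRingCat.ofHom μ₀) (IsLocalRing.closedPoint k)) := by
    rw [hx, hh]
    rfl
  -- a basic open neighbourhood
  let U : (Spec (CommRingCat.of (Rf f b₀))).Opens := g.left ⁻¹ᵁ A
  have hU : Spec.map (CommRingCat.ofHom μ₀) (IsLocalRing.closedPoint k) ∈ U := by
    change g.left _ ∈ A
    rw [← hx']
    exact hA
  obtain ⟨_, ⟨_, ⟨G', rfl⟩, rfl⟩, hG'1, hG'2⟩ :=
    PrimeSpectrum.isBasis_basic_opens.exists_subset_of_mem_open hU U.2
  have hmem : ∀ μ : Rf f b₀ →+* k, Spec.map (CommRingCat.ofHom μ) (IsLocalRing.closedPoint k) ∈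
      (PrimeSpectrum.basicOpen G' : Set (PrimeSpectrum (Rf f b₀))) ↔ μ G' ≠ 0 := by
    intro μ
    change μ G' ∉ IsLocalRing.maximalIdeal k ↔ _
    rw [IsLocalRing.maximalIdeal_eq_bot, Ideal.mem_bot]
  obtain ⟨n, a, ha⟩ := IsLocalization.Away.surj (Ideal.Quotient.mk (I f d) (Δ b₀)) G'
  obtain ⟨G₁, rfl⟩ := Ideal.Quotient.mk_surjective a
  have ha' : G' * π f b₀ (Δ b₀) ^ n = π f b₀ G₁ := ha
  have hval : ∀ (c : Fin (d + 1) → Fin 5 → k) (μ : Rf f b₀ →+* k), μ.comp (π f b₀) = evc c →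
      μ G' * evc c (Δ b₀) ^ n = evc c G₁ := by
    intro c μ hμ
    rw [← hμ, RingHom.comp_apply, RingHom.comp_apply, ← map_pow, ← map_mul, ha']
  refine ⟨G₁ * Δ b₀, ?_, fun c hc hG => ?_⟩
  · change evc c₀ (G₁ * Δ b₀) ≠ 0
    rw [map_mul, ← hval c₀ μ₀ hμ₀, hΔ₀, one_pow, mul_one, mul_one]
    exact (hmem μ₀).mp hG'1
  · change evc c (G₁ * Δ b₀) ≠ 0 at hG
    rw [map_mul] at hG
    have hΔc : evc c (Δ b₀) ≠ 0 := right_ne_zero_of_mul hG
    obtain ⟨μ, hμ⟩ := exists_point (b₀ := b₀) hc hΔc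
    obtain ⟨hpar, hpull⟩ := hcls c μ hμ
    have h1 : μ G' ≠ 0 := by
      intro h0
      apply left_ne_zero_of_mul hG
      rw [← hval c μ hμ, h0, zero_mul]
    refine ⟨g.left (Spec.map (CommRingCat.ofHom μ) (IsLocalRing.closedPoint k)), hG'2 ((hmem μ).mpr h1),
      (Over.homMk (Spec.map (CommRingCat.ofHom μ)) (hSp c μ hμ) :
            pt k ⟶ Over.mk (Spec.map (CommRingCat.ofHom (σf f b₀)))) ≫ g, pmap μ 1 ≫ j, rfl, hpar, hpull⟩

end main

end K387.RatFam
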