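import Groth.Agent.Fano.K387.FormProj2
import Groth.Agent.Fano.K714.RatDef
import Mathlib.Algebra.MvPolynomial.Funext

/-!
# Parametrised rational normal curves on a cubic threefold (job R1)

* `exists_isPar`, `isClosedImmersion`.
-/

set_option autoImplicit false
universe u
open CategoryTheory CategoryTheory.Limits AlgebraicGeometry TopologicalSpace Opposite

namespace K387.RatNormal

open Groth.Agent.Fano.K714.Rat K387.FormProj K390.PnSec
open Groth.Agent.Lefpen.H872.RelCI

attribute [local instance] MvPolynomial.gradedAlgebra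

variable {k : Type u} [Field k]

/-- A left inverse of the coefficient matrix. -/
theorem exists_dual {d n : ℕ} {c : Fin (d + 1) → Fin (n + 1) → k} (hc : LinearIndependent k c) :
    ∃ b : Fin (d + 1) → Fin (n + 1) → k, ∀ m m', ∑ j, b m' j * c m j = if m = m' then 1 else 0 := by
  classical
  obtain ⟨g, hg⟩ := LinearMap.exists_leftInverse_of_injective (Fintype.linearCombination k c)
    (LinearMap.ker_eq_bot.mpr hc.fintypeLinearCombination_injective)
  have hl : ∀ m' m, g (c m) m' = if m = m' then 1 else 0 := by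
    intro m' m
    have h1 := congrArg (fun q => q (Pi.single m 1) m') hg
    simp only [LinearMap.comp_apply, LinearMap.id_apply, Fintype.linearCombination_apply_single,
      one_smul] at h1
    rw [h1, Pi.single_apply]
    simp [eq_comm]
  refine ⟨fun m' j => g (Pi.single j 1) m', fun m m' => ?_⟩
  rw [← hl m' m]
  conv_rhs => rw [← Finset.univ_sum_single (c m)]
  rw [map_sum, Finset.sum_apply]
  refine Finset.sum_congr rfl fun j _ => ?_
  have h2 : (Pi.single j (c m j) : Fin (n + 1) → k) = c m j • Pi.single j 1 := by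
    rw [← Pi.single_smul, smul_eq_mul, mul_one]
  rw [h2, map_smul, Pi.smul_apply, smul_eq_mul, mul_comm]

variable {d : ℕ}

theorem bform_eq (c : Fin (d + 1) → Fin 5 → k) (j : Fin 5) : (bform c j).1 = bf (n := 4) c j := rfl

theorem bform_span {c : Fin (d + 1) → Fin 5 → k} (hc : LinearIndependent k c) :
    CohB1.polyGrading 1 k d ≤ Submodule.span k (Set.range fun j => (bform c j).1) := by
  obtain ⟨b, hb⟩ := exists_dual (n := 4) hc
  exact bf_span (n := 4) c b hb

/-- The morphism `P^1 → P^4` with coordinates `c`. -/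
noncomputable abbrev Vc (hd : 1 ≤ d) {c : Fin (d + 1) → Fin 5 → k} (hc : LinearIndependent k c) :
    CohB1.ProjSpace 1 k ⟶ CohB1.ProjSpace 4 k :=
  V hd (fun j => (bform c j).1) (fun j => (bform c j).2) (bform_span hc)

theorem emb_eq (f : LefPen.Form 4 k 3) (hd : 1 ≤ d) {c : Fin (d + 1) → Fin 5 → k} (hc : LinearIndependent k c)
    {i : CohB1.ProjSpace 1 k ⟶ Xf f} (hi : IsPar f d c i) : i ≫ emb f = Vc hd hc :=
  hi.2.unique (givenBy_V hd _ (fun j => (bform c j).2) (bform_span hc)) (by
    rw [Category.assoc]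
    exact hi.1.trans (V_toSpec hd _ _ _).symm)

theorem isClosedImmersion (f : LefPen.Form 4 k 3) (hd : 1 ≤ d)
    {c : Fin (d + 1) → Fin 5 → k} (hc : LinearIndependent k c)
    {i : CohB1.ProjSpace 1 k ⟶ Xf f} (hi : IsPar f d c i) : IsClosedImmersion i := by
  have h1 : IsClosedImmersion (i ≫ emb f) := by
    rw [emb_eq f hd hc hi]
    infer_instance
  exact IsClosedImmersion.of_comp i (emb f)

/-- `f (F) = 0` for the coordinates of a curve on `V_+(f)`. -/
theorem aeval_bform [Infinite k] (f : LefPen.Form 4 k 3) {c : Fin (d + 1) → Fin 5 → k}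
    (h0 : ∀ s t : k, MvPolynomial.eval (cpt c s t) f.1 = 0) :
    MvPolynomial.aeval (R := k) (fun j => (bform c j).1) f.1 = 0 := by
  apply MvPolynomial.funext
  intro x
  rw [map_zero, ← h0 (x 0) (x 1), MvPolynomial.aeval_def, MvPolynomial.eval_eval₂]
  have e1 : (MvPolynomial.eval x).comp (algebraMap k (MvPolynomial (Fin 2) k)) = RingHom.id k :=
    RingHom.ext fun a => by simp
  have e2 : (fun j => MvPolynomial.eval x (bform c j).1) = cpt c (x 0) (x 1) :=
    funext fun j => eval_bform c j x
  rw [e1, e2]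
  rfl

/-- Factoring through `V_+(f)`. -/
theorem exists_lift {X : Scheme.{u}} (f : LefPen.Form 4 k 3) (r : X ⟶ CohB1.ProjSpace 4 k)
    (h : ∀ i, (r.app (LefPen.chart 4 k i)).hom (LefPen.dehom f i) = 0) :
    ∃ j : X ⟶ Xf f, j ≫ emb f = r := by
  have h1 := K995.ConicEmb.hypIdeal_le_ker f r h
  have h2 : (emb f).ker ≤ r.ker := by
    rw [Scheme.IdealSheafData.ker_subschemeι]
    exact h1
  exact ⟨IsClosedImmersion.lift (emb f) r h2, IsClosedImmersion.lift_fac _ _ _⟩

theorem exists_isPar [Infinite k] (f : LefPen.Form 4 k 3) (hd : 1 ≤ d)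
    {c : Fin (d + 1) → Fin 5 → k} (hc : c ∈ Par f d) : ∃ i : CohB1.ProjSpace 1 k ⟶ Xf f, IsPar f d c i := by
  obtain ⟨i, hi⟩ := exists_lift f (Vc hd hc.1) fun j =>
    V_app_eq_zero hd _ _ (bform_span hc.1) f (aeval_bform f hc.2) j
  refine ⟨i, ?_, ?_⟩
  · rw [← Category.assoc, hi]
    exact V_toSpec hd _ _ _
  · rw [hi]
    exact givenBy_V hd _ (fun j => (bform c j).2) (bform_span hc.1)

end K387.RatNormal
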